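/-!
# Words for the elements of order four
-/

set_option autoImplicit false

namespace Cfsg.Agent.U62Three.K.Code

/-- Words in the points and an element of order four of plane 0 giving `hh 0`. -/
def fourWords0 : List (List Nat) := [
  [2, 2, 1, 4, 2, 1, 1],
  [4, 4, 1, 4, 2, 4, 1],
  [4, 3, 2, 4, 2],
  [4, 2, 2, 4, 1, 0],
  [3, 1, 4, 1],
  [2, 2, 4, 3, 0],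
  [1, 4, 1, 1],
  [4, 1, 1, 4, 1],
  [2, 4, 3, 2, 4],
  [3, 4, 3, 2, 4],
  [4, 3, 1, 1],
  [4, 2, 1, 1],
  [3, 4, 2, 1, 4],
  [3, 3, 4, 3],
  [4, 4, 4, 3, 1, 1],
  [4, 4, 3, 4, 2, 4, 1],
  [2, 4, 1, 1],
  [2, 4, 3, 3, 0],
  [4, 3, 1, 4, 2],
  [2, 4, 2, 2],
  [2, 4, 3, 3, 4, 0],
  [1, 4, 3, 3, 4, 0],
  [2, 1, 1, 4],
  [3, 2, 2, 4, 2, 1, 1],
  [2, 2, 4, 2],
  [2, 4, 3, 1, 4],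
  [4, 4, 4, 2, 1, 1],
  [4, 4, 2, 4, 3, 4, 1],
  [3, 4, 1, 1],
  [3, 4, 2, 2, 0],
  [4],
  [4, 4, 4],
  [4, 2, 2, 4, 3, 0],
  [4, 3, 3, 4, 2, 0],
  [1, 1, 4, 3],
  [1, 1, 4, 2],
  [1, 1, 4, 1],
  [1, 4, 1, 1, 4],
  [4, 4, 3, 3, 2, 4],
  [4, 4, 3, 2, 2, 4],
  [1, 4, 3, 1],
  [1, 4, 2, 1],
  [4, 4, 1, 4, 3, 4, 1],
  [3, 3, 1, 4, 3, 1, 1],
  [4, 3, 2, 4, 3],
  [4, 3, 3, 4, 1, 0],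
  [2, 1, 4, 1],
  [3, 3, 4, 2, 0],
  [3, 4, 3, 3],
  [4, 2, 1, 4, 3],
  [3, 4, 2, 2, 4, 0],
  [1, 4, 2, 2, 4, 0],
  [3, 1, 1, 4],
  [3, 3, 2, 4, 3, 1, 1]]

/-- Words in the points and an element of order four of plane 1 giving `hh 1`. -/
def fourWords1 : List (List Nat) := [
  [2, 2, 0, 4, 2, 0, 0],
  [4, 4, 0, 4, 2, 4, 0],
  [4, 3, 2, 4, 2],
  [4, 2, 2, 4, 1, 0],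
  [3, 0, 4, 0],
  [2, 2, 4, 3, 1],
  [0, 4, 0, 0],
  [4, 0, 0, 4, 0],
  [2, 4, 3, 2, 4],
  [3, 4, 3, 2, 4],
  [4, 3, 0, 0],
  [4, 2, 0, 0],
  [3, 4, 2, 0, 4],
  [3, 3, 4, 3],
  [4, 4, 4, 3, 0, 0],
  [4, 4, 3, 4, 2, 4, 0],
  [2, 4, 0, 0],
  [2, 4, 3, 3, 1],
  [4, 3, 0, 4, 2],
  [2, 4, 2, 2],
  [2, 4, 3, 3, 4, 1],
  [0, 4, 3, 3, 4, 1],
  [2, 0, 0, 4],
  [3, 2, 2, 4, 2, 0, 0],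
  [2, 2, 4, 2],
  [2, 4, 3, 0, 4],
  [4, 4, 4, 2, 0, 0],
  [4, 4, 2, 4, 3, 4, 0],
  [3, 4, 0, 0],
  [3, 4, 2, 2, 1],
  [4],
  [4, 4, 4],
  [4, 4, 2, 4, 0, 0],
  [4, 4, 3, 4, 0, 0],
  [0, 0, 4, 3],
  [0, 0, 4, 2],
  [0, 0, 4, 0],
  [0, 4, 0, 0, 4],
  [4, 4, 3, 3, 2, 4],
  [4, 4, 3, 2, 2, 4],
  [0, 4, 3, 0],
  [0, 4, 2, 0],
  [4, 4, 0, 4, 3, 4, 0],
  [3, 3, 0, 4, 3, 0, 0],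
  [4, 3, 2, 4, 3],
  [4, 3, 3, 4, 1, 0],
  [2, 0, 4, 0],
  [3, 3, 4, 2, 1],
  [3, 4, 3, 3],
  [4, 2, 0, 4, 3],
  [3, 4, 2, 2, 4, 1],
  [0, 4, 2, 2, 4, 1],
  [3, 0, 0, 4],
  [3, 3, 2, 4, 3, 0, 0]]

/-- Words in the points and an element of order four of plane 2 giving `hh 2`. -/
def fourWords2 : List (List Nat) := [
  [1, 1, 0, 4, 1, 0, 0],
  [4, 4, 0, 4, 1, 4, 0],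
  [4, 3, 1, 4, 1],
  [4, 1, 1, 4, 2, 0],
  [3, 0, 4, 0],
  [1, 1, 4, 3, 2],
  [0, 4, 0, 0],
  [4, 0, 0, 4, 0],
  [1, 4, 3, 1, 4],
  [3, 4, 3, 1, 4],
  [4, 3, 0, 0],
  [4, 1, 0, 0],
  [3, 4, 1, 0, 4],
  [3, 3, 4, 3],
  [4, 4, 4, 3, 0, 0],
  [4, 4, 3, 4, 1, 4, 0],
  [1, 4, 0, 0],
  [1, 4, 3, 3, 2],
  [4, 3, 0, 4, 1],
  [1, 4, 1, 1],
  [1, 4, 3, 3, 4, 2],
  [0, 4, 3, 3, 4, 2],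
  [1, 0, 0, 4],
  [3, 1, 1, 4, 1, 0, 0],
  [1, 1, 4, 1],
  [1, 4, 3, 0, 4],
  [4, 4, 4, 1, 0, 0],
  [4, 4, 1, 4, 3, 4, 0],
  [3, 4, 0, 0],
  [3, 4, 2, 1, 1],
  [4],
  [4, 4, 4],
  [4, 4, 1, 4, 0, 0],
  [4, 4, 3, 4, 0, 0],
  [0, 0, 4, 3],
  [0, 0, 4, 1],
  [0, 0, 4, 0],
  [0, 4, 0, 0, 4],
  [4, 4, 3, 3, 1, 4],
  [4, 4, 3, 1, 1, 4],
  [0, 4, 3, 0],
  [0, 4, 1, 0],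
  [4, 4, 0, 4, 3, 4, 0],
  [3, 3, 0, 4, 3, 0, 0],
  [4, 3, 1, 4, 3],
  [4, 3, 3, 4, 2, 0],
  [1, 0, 4, 0],
  [3, 3, 4, 2, 1],
  [3, 4, 3, 3],
  [4, 1, 0, 4, 3],
  [4, 4, 3, 3, 4, 1],
  [0, 4, 1, 1, 4, 2],
  [3, 0, 0, 4],
  [3, 3, 1, 4, 3, 0, 0]]

/-- Words in the points and an element of order four of plane 3 giving `hh 3`. -/
def fourWords3 : List (List Nat) := [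
  [1, 1, 0, 4, 1, 0, 0],
  [4, 4, 0, 4, 1, 4, 0],
  [4, 2, 1, 4, 1],
  [4, 1, 1, 4, 3, 0],
  [2, 0, 4, 0],
  [1, 1, 4, 3, 2],
  [0, 4, 0, 0],
  [4, 0, 0, 4, 0],
  [1, 4, 2, 1, 4],
  [2, 4, 2, 1, 4],
  [4, 2, 0, 0],
  [4, 1, 0, 0],
  [2, 4, 1, 0, 4],
  [2, 2, 4, 2],
  [4, 4, 4, 2, 0, 0],
  [4, 4, 2, 4, 1, 4, 0],
  [1, 4, 0, 0],
  [1, 4, 3, 2, 2],
  [4, 2, 0, 4, 1],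
  [1, 4, 1, 1],
  [4, 4, 1, 1, 4, 2],
  [0, 4, 2, 2, 4, 3],
  [1, 0, 0, 4],
  [2, 1, 1, 4, 1, 0, 0],
  [1, 1, 4, 1],
  [1, 4, 2, 0, 4],
  [4, 4, 4, 1, 0, 0],
  [4, 4, 1, 4, 2, 4, 0],
  [2, 4, 0, 0],
  [2, 4, 3, 1, 1],
  [4],
  [4, 4, 4],
  [4, 4, 1, 4, 0, 0],
  [4, 4, 2, 4, 0, 0],
  [0, 0, 4, 2],
  [0, 0, 4, 1],
  [0, 0, 4, 0],
  [0, 4, 0, 0, 4],
  [4, 4, 2, 2, 1, 4],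
  [4, 4, 2, 1, 1, 4],
  [0, 4, 2, 0],
  [0, 4, 1, 0],
  [4, 4, 0, 4, 2, 4, 0],
  [2, 2, 0, 4, 2, 0, 0],
  [4, 2, 1, 4, 2],
  [4, 2, 2, 4, 3, 0],
  [1, 0, 4, 0],
  [2, 2, 4, 3, 1],
  [2, 4, 2, 2],
  [4, 1, 0, 4, 2],
  [4, 4, 2, 2, 4, 1],
  [0, 4, 1, 1, 4, 3],
  [2, 0, 0, 4],
  [2, 2, 1, 4, 2, 0, 0]]

end Cfsg.Agent.U62Three.K.Code
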