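/-!
# Words for the orbit and the stabiliser
-/

set_option autoImplicit false

namespace Cfsg.Agent.U62Three.K.Code

/-- For each vector of value one a word moving it to the first unit vector. -/
def orbitWords : List (List Nat) := [
  [],
  [1, 1],
  [1],
  [7, 5, 6],
  [6, 4, 3, 6],
  [1, 7, 5, 6],
  [5, 7, 2, 5],
  [1, 5, 0, 6],
  [1, 7, 2],
  [7, 0, 2],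
  [7, 0],
  [7, 1, 2],
  [1, 7],
  [7, 2, 7],
  [7, 1, 6],
  [7, 1],
  [1, 5, 0, 6, 7],
  [1, 1, 7, 1],
  [7, 2, 2],
  [7, 2, 4],
  [7, 1, 7],
  [5, 0, 6],
  [7, 2],
  [7],
  [1, 1, 7, 0],
  [1, 7, 0, 0],
  [5, 0, 6, 7],
  [7, 0, 0],
  [1, 1, 7],
  [1, 7, 0],
  [1, 7, 1, 6],
  [1, 7, 1],
  [7, 0, 1],
  [5, 6, 6],
  [7, 1, 1],
  [6, 3, 4],
  [5, 2, 6, 4],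
  [5, 2, 7],
  [1, 6, 3],
  [1, 6, 4],
  [6, 0],
  [6, 1, 3],
  [1, 6],
  [6, 3, 6],
  [7, 5],
  [6, 1],
  [1, 5, 3, 6],
  [1, 5, 3],
  [5, 0, 3],
  [5, 0, 7],
  [6, 4, 5],
  [6, 5],
  [5, 0],
  [1, 5, 7],
  [1, 5],
  [1, 6, 7],
  [6, 7, 1],
  [5, 6, 3],
  [5, 3, 5],
  [5, 7, 2],
  [5, 2],
  [5, 6],
  [6, 5, 3],
  [5, 6, 4],
  [5, 0, 7, 4],
  [5, 7, 7],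
  [6, 3, 3],
  [6, 4, 3],
  [6, 4],
  [6, 3, 5],
  [6, 3],
  [6],
  [1, 1, 6, 0],
  [1, 6, 0, 0],
  [7, 4],
  [5, 3, 3],
  [5, 0, 0, 2],
  [1, 7, 6],
  [7, 2, 5],
  [1, 5, 6, 1],
  [5, 2, 5],
  [5, 3, 6],
  [5, 3],
  [6, 3, 7],
  [1, 5, 2, 6],
  [5, 2, 6, 1],
  [5],
  [5, 7, 6],
  [5, 7],
  [1, 6, 5, 2],
  [6, 7],
  [1, 7, 6, 3],
  [5, 3, 6, 5],
  [6, 0, 0],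
  [1, 1, 6],
  [1, 6, 0],
  [1, 7, 5],
  [1, 6, 1],
  [5, 2, 4],
  [7, 1, 5],
  [6, 1, 1],
  [1, 5, 2, 7],
  [5, 0, 0],
  [1, 1, 5],
  [1, 5, 0],
  [7, 6, 3],
  [6, 5, 2],
  [1, 1, 6, 7],
  [1, 5, 7, 2],
  [1, 5, 2],
  [5, 0, 2],
  [5, 6, 1],
  [7, 6],
  [1, 5, 6],
  [1, 1, 5, 3],
  [5, 2, 2],
  [6, 1, 4],
  [1, 6, 4, 5],
  [1, 6, 5],
  [5, 2, 6]]

/-- For each code fixing the first plane a word and the power of the diagonal element. -/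
def stabWords : List (List Nat × Nat) := [
  ([], 0),
  ([3, 1, 1], 1),
  ([3, 3, 1], 2),
  ([2, 1, 1], 1),
  ([0, 0], 2),
  ([3, 3, 2], 0),
  ([2, 2, 1], 2),
  ([3, 2, 2], 0),
  ([0], 1),
  ([4, 4, 3, 2, 2], 0),
  ([4, 4, 3, 1, 1], 1),
  ([4, 4, 0, 0], 2),
  ([4, 4, 0], 1),
  ([4, 4, 3, 3, 1], 2),
  ([4, 4, 3, 3, 2], 0),
  ([4, 4, 2, 2, 1], 2),
  ([4, 4], 0),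
  ([4, 4, 2, 1, 1], 1),
  ([], 1),
  ([3, 1, 1], 2),
  ([3, 3, 1], 0),
  ([2, 1, 1], 2),
  ([0, 0], 0),
  ([3, 3, 2], 1),
  ([2, 2, 1], 0),
  ([3, 2, 2], 1),
  ([0], 2),
  ([4, 4, 3, 2, 2], 1),
  ([4, 4, 3, 1, 1], 2),
  ([4, 4, 0, 0], 0),
  ([4, 4, 0], 2),
  ([4, 4, 3, 3, 1], 0),
  ([4, 4, 3, 3, 2], 1),
  ([4, 4, 2, 2, 1], 0),
  ([4, 4], 1),
  ([4, 4, 2, 1, 1], 2),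
  ([], 2),
  ([3, 1, 1], 0),
  ([3, 3, 1], 1),
  ([2, 1, 1], 0),
  ([0, 0], 1),
  ([3, 3, 2], 2),
  ([2, 2, 1], 1),
  ([3, 2, 2], 2),
  ([0], 0),
  ([4, 4, 3, 2, 2], 2),
  ([4, 4, 3, 1, 1], 0),
  ([4, 4, 0, 0], 1),
  ([4, 4, 0], 0),
  ([4, 4, 3, 3, 1], 1),
  ([4, 4, 3, 3, 2], 2),
  ([4, 4, 2, 2, 1], 1),
  ([4, 4], 2),
  ([4, 4, 2, 1, 1], 0),
  ([7, 7, 2, 1, 1], 0),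
  ([7, 7, 3, 1, 1], 1),
  ([7, 7, 0], 2),
  ([7, 7], 1),
  ([7, 7, 3, 2, 2], 2),
  ([7, 7, 3, 3, 2], 0),
  ([7, 7, 2, 2, 1], 2),
  ([7, 7, 0, 0], 0),
  ([7, 7, 3, 3, 1], 1),
  ([4, 4, 7, 7, 0, 0], 0),
  ([7, 7, 6, 6], 1),
  ([6, 6, 4, 4, 0, 0], 2),
  ([6, 6, 4, 4, 0], 1),
  ([4, 4, 7, 7, 0], 2),
  ([7, 7, 6, 6, 0, 0], 0),
  ([7, 7, 6, 6, 0], 2),
  ([6, 6, 4, 4], 0),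
  ([4, 4, 7, 7], 1),
  ([7, 7, 2, 1, 1], 1),
  ([7, 7, 3, 1, 1], 2),
  ([7, 7, 0], 0),
  ([7, 7], 2),
  ([7, 7, 3, 2, 2], 0),
  ([7, 7, 3, 3, 2], 1),
  ([7, 7, 2, 2, 1], 0),
  ([7, 7, 0, 0], 1),
  ([7, 7, 3, 3, 1], 2),
  ([4, 4, 7, 7, 0, 0], 1),
  ([7, 7, 6, 6], 2),
  ([6, 6, 4, 4, 0, 0], 0),
  ([6, 6, 4, 4, 0], 2),
  ([4, 4, 7, 7, 0], 0),
  ([7, 7, 6, 6, 0, 0], 1),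
  ([7, 7, 6, 6, 0], 0),
  ([6, 6, 4, 4], 1),
  ([4, 4, 7, 7], 2),
  ([7, 7, 2, 1, 1], 2),
  ([7, 7, 3, 1, 1], 0),
  ([7, 7, 0], 1),
  ([7, 7], 0),
  ([7, 7, 3, 2, 2], 1),
  ([7, 7, 3, 3, 2], 2),
  ([7, 7, 2, 2, 1], 1),
  ([7, 7, 0, 0], 2),
  ([7, 7, 3, 3, 1], 0),
  ([4, 4, 7, 7, 0, 0], 2),
  ([7, 7, 6, 6], 0),
  ([6, 6, 4, 4, 0, 0], 1),
  ([6, 6, 4, 4, 0], 0),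
  ([4, 4, 7, 7, 0], 1),
  ([7, 7, 6, 6, 0, 0], 2),
  ([7, 7, 6, 6, 0], 1),
  ([6, 6, 4, 4], 2),
  ([4, 4, 7, 7], 0),
  ([7, 7, 4, 4, 0], 0),
  ([4, 4, 6, 6], 1),
  ([6, 6, 7, 7, 0], 2),
  ([6, 6, 7, 7], 1),
  ([7, 7, 4, 4], 2),
  ([4, 4, 6, 6, 0, 0], 0),
  ([4, 4, 6, 6, 0], 2),
  ([4, 6, 6, 4], 0),
  ([7, 7, 4, 4, 0, 0], 1),
  ([6, 6, 3, 1, 1], 0),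
  ([6, 6], 1),
  ([6, 6, 3, 3, 1], 2),
  ([6, 6, 2, 1, 1], 1),
  ([6, 6, 3, 3, 2], 2),
  ([6, 6, 0, 0], 0),
  ([6, 6, 0], 2),
  ([6, 6, 3, 2, 2], 0),
  ([6, 6, 2, 2, 1], 1),
  ([1, 4, 2, 4, 1], 0),
  ([4, 6, 6], 1),
  ([7, 7, 4, 0, 0], 2),
  ([4, 3, 3, 2], 0),
  ([4, 4, 4, 6, 6], 1),
  ([6, 6, 4, 4, 4], 2),
  ([4, 7, 7, 6, 6], 1),
  ([4, 2, 2, 1], 2),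
  ([7, 7, 6, 6, 4], 0),
  ([7, 7, 4, 0], 1),
  ([2, 4, 3, 4, 2], 2),
  ([4, 6, 6, 0, 0], 0),
  ([4, 6, 6, 0], 2),
  ([7, 7, 4], 0),
  ([1, 4, 2, 4, 1, 0], 1),
  ([4, 4, 4, 6, 6, 0], 2),
  ([6, 6, 4, 4, 4, 0], 0),
  ([4, 3, 1, 1], 1),
  ([4, 2, 4, 1, 1], 1),
  ([4, 3, 4, 2, 1], 2),
  ([4, 1, 4, 2, 2], 0),
  ([3, 2, 4, 3], 1),
  ([2, 2, 4, 3, 0], 2),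
  ([2, 1, 4, 3], 0),
  ([3, 3, 4, 3, 0], 2),
  ([1, 1, 4, 3, 0], 0),
  ([2, 2, 4, 3], 1),
  ([4, 1, 4, 3, 1], 2),
  ([4, 2, 4, 3, 2], 0),
  ([4, 3, 4, 3, 3, 0], 1),
  ([4, 3, 4, 3, 3], 0),
  ([4, 1, 4, 2, 2, 0], 1),
  ([4, 2, 4, 1, 1, 0], 2),
  ([3, 1, 4, 3], 0),
  ([3, 3, 4, 3], 1),
  ([1, 1, 4, 3], 2),
  ([1, 1, 4, 2, 4], 2),
  ([3, 1, 4, 2, 4], 0),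
  ([3, 3, 4, 2, 4], 1),
  ([1, 4, 2, 2, 0], 2),
  ([3, 4, 2, 2, 0], 0),
  ([2, 4, 3, 1], 1),
  ([2, 4, 2, 2, 0], 0),
  ([1, 4, 2, 2], 1),
  ([3, 4, 2, 2], 2),
  ([2, 1, 4, 2, 4], 0),
  ([3, 2, 4, 2, 4], 1),
  ([1, 7, 6, 7, 6], 2),
  ([2, 2, 4, 2, 4], 1),
  ([3, 3, 4, 2, 4, 0], 2),
  ([2, 7, 6, 7, 6], 0),
  ([3, 4, 3, 1], 1),
  ([2, 4, 2, 2], 2),
  ([1, 4, 3, 1], 0),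
  ([1, 1, 4, 1, 0], 1),
  ([2, 2, 4, 1], 2),
  ([3, 3, 4, 1, 0], 0),
  ([4, 2, 4, 2, 1], 1),
  ([4, 3, 4, 2, 2], 2),
  ([4, 1, 4, 1, 1], 0),
  ([4, 1, 4, 3, 2], 2),
  ([4, 2, 4, 3, 3, 0], 0),
  ([4, 3, 4, 3, 1], 1),
  ([3, 3, 4, 1], 2),
  ([1, 1, 4, 1], 0),
  ([3, 1, 4, 1], 1),
  ([4, 3, 4, 2, 2, 0], 0),
  ([4, 1, 4, 1, 1, 0], 1),
  ([4, 2, 4, 3, 3], 2),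
  ([2, 2, 4, 1, 0], 0),
  ([2, 1, 4, 1], 1),
  ([3, 2, 4, 1], 2),
  ([1, 4, 1, 1, 0], 2),
  ([3, 4, 1, 1, 0], 0),
  ([2, 4, 3, 2], 1),
  ([3, 1, 4, 1, 4], 2),
  ([3, 3, 4, 1, 4], 0),
  ([1, 1, 4, 1, 4], 1),
  ([3, 2, 4, 1, 4], 0),
  ([2, 2, 4, 1, 4, 0], 1),
  ([2, 1, 4, 1, 4], 2),
  ([2, 4, 1, 1, 0], 0),
  ([1, 4, 1, 1], 1),
  ([3, 4, 1, 1], 2),
  ([3, 3, 4, 1, 4, 0], 1),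
  ([1, 1, 4, 1, 4, 0], 2),
  ([2, 2, 4, 1, 4], 0),
  ([3, 4, 3, 2], 1),
  ([2, 4, 1, 1], 2),
  ([1, 4, 3, 2], 0),
  ([4, 0], 0),
  ([2, 2, 1, 4], 1),
  ([3, 2, 2, 4], 2),
  ([4, 7, 7, 0], 0),
  ([3, 4, 2, 4, 2], 1),
  ([4, 4, 4], 2),
  ([4, 4, 4, 0, 0], 1),
  ([4, 7, 7], 2),
  ([2, 4, 1, 4, 1], 0),
  ([3, 3, 1, 4], 1),
  ([4], 2),
  ([3, 1, 1, 4], 0),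
  ([3, 4, 2, 4, 2, 0], 2),
  ([4, 4, 4, 0], 0),
  ([4, 7, 7, 0, 0], 1),
  ([3, 3, 2, 4], 2),
  ([2, 1, 1, 4], 0),
  ([4, 0, 0], 1),
  ([3, 3, 4, 3, 4], 2),
  ([1, 1, 4, 3, 4], 0),
  ([3, 1, 4, 3, 4], 1),
  ([1, 4, 3, 3], 2),
  ([3, 4, 3, 3], 0),
  ([2, 4, 3, 3, 0], 1),
  ([2, 2, 4, 3, 4, 0], 0),
  ([2, 1, 4, 3, 4], 1),
  ([3, 2, 4, 3, 4], 2),
  ([2, 4, 3, 3], 0),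
  ([1, 4, 2, 1], 1),
  ([3, 4, 2, 1], 2),
  ([3, 4, 3, 3, 0], 1),
  ([2, 4, 2, 1], 2),
  ([1, 4, 3, 3, 0], 0),
  ([1, 1, 4, 3, 4, 0], 1),
  ([2, 2, 4, 3, 4], 2),
  ([3, 3, 4, 3, 4, 0], 0),
  ([3, 4, 1, 4, 2], 0),
  ([6, 6, 4, 0], 1),
  ([3, 4, 3, 4, 1], 2),
  ([4, 3, 3, 1], 0),
  ([4, 6, 6, 7, 7], 1),
  ([4, 6, 6, 4, 4], 2),
  ([2, 4, 2, 4, 3, 0], 1),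
  ([2, 4, 3, 4, 1], 2),
  ([6, 6, 4], 0),
  ([6, 6, 7, 7, 4, 0], 1),
  ([4, 2, 1, 1], 2),
  ([4, 4, 6, 6, 4], 0),
  ([4, 6, 6, 7, 7, 0], 2),
  ([6, 6, 7, 7, 4], 0),
  ([4, 3, 2, 2], 1),
  ([6, 6, 4, 0, 0], 2),
  ([2, 4, 2, 4, 3], 0),
  ([3, 4, 1, 4, 2, 0], 1),
  ([4, 2, 4, 2, 2], 1),
  ([4, 3, 4, 1, 1], 2),
  ([4, 1, 4, 2, 1], 0),
  ([1, 1, 4, 2, 0], 1),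
  ([2, 2, 4, 2], 2),
  ([3, 3, 4, 2, 0], 0),
  ([4, 1, 4, 3, 3, 0], 2),
  ([4, 2, 4, 3, 1], 0),
  ([4, 3, 4, 3, 2], 1),
  ([3, 3, 4, 2], 2),
  ([1, 1, 4, 2], 0),
  ([3, 1, 4, 2], 1),
  ([2, 2, 4, 2, 0], 0),
  ([2, 1, 4, 2], 1),
  ([3, 2, 4, 2], 2),
  ([4, 3, 4, 1, 1, 0], 0),
  ([4, 1, 4, 3, 3], 1),
  ([4, 2, 4, 2, 2, 0], 2),
  ([7, 7, 4, 4, 0], 1),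
  ([4, 4, 6, 6], 2),
  ([6, 6, 7, 7, 0], 0),
  ([6, 6, 7, 7], 2),
  ([7, 7, 4, 4], 0),
  ([4, 4, 6, 6, 0, 0], 1),
  ([4, 4, 6, 6, 0], 0),
  ([4, 6, 6, 4], 1),
  ([7, 7, 4, 4, 0, 0], 2),
  ([6, 6, 3, 1, 1], 1),
  ([6, 6], 2),
  ([6, 6, 3, 3, 1], 0),
  ([6, 6, 2, 1, 1], 2),
  ([6, 6, 3, 3, 2], 0),
  ([6, 6, 0, 0], 1),
  ([6, 6, 0], 0),
  ([6, 6, 3, 2, 2], 1),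
  ([6, 6, 2, 2, 1], 2),
  ([4, 2, 4, 2, 2], 2),
  ([4, 3, 4, 1, 1], 0),
  ([4, 1, 4, 2, 1], 1),
  ([1, 1, 4, 2, 0], 2),
  ([2, 2, 4, 2], 0),
  ([3, 3, 4, 2, 0], 1),
  ([4, 1, 4, 3, 3, 0], 0),
  ([4, 2, 4, 3, 1], 1),
  ([4, 3, 4, 3, 2], 2),
  ([3, 3, 4, 2], 0),
  ([1, 1, 4, 2], 1),
  ([3, 1, 4, 2], 2),
  ([2, 2, 4, 2, 0], 1),
  ([2, 1, 4, 2], 2),
  ([3, 2, 4, 2], 0),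
  ([4, 3, 4, 1, 1, 0], 1),
  ([4, 1, 4, 3, 3], 2),
  ([4, 2, 4, 2, 2, 0], 0),
  ([3, 3, 4, 3, 4], 0),
  ([1, 1, 4, 3, 4], 1),
  ([3, 1, 4, 3, 4], 2),
  ([1, 4, 3, 3], 0),
  ([3, 4, 3, 3], 1),
  ([2, 4, 3, 3, 0], 2),
  ([2, 2, 4, 3, 4, 0], 1),
  ([2, 1, 4, 3, 4], 2),
  ([3, 2, 4, 3, 4], 0),
  ([2, 4, 3, 3], 1),
  ([1, 4, 2, 1], 2),
  ([3, 4, 2, 1], 0),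
  ([3, 4, 3, 3, 0], 2),
  ([2, 4, 2, 1], 0),
  ([1, 4, 3, 3, 0], 1),
  ([1, 1, 4, 3, 4, 0], 2),
  ([2, 2, 4, 3, 4], 0),
  ([3, 3, 4, 3, 4, 0], 1),
  ([3, 4, 1, 4, 2], 1),
  ([6, 6, 4, 0], 2),
  ([3, 4, 3, 4, 1], 0),
  ([4, 3, 3, 1], 1),
  ([4, 6, 6, 7, 7], 2),
  ([4, 6, 6, 4, 4], 0),
  ([2, 4, 2, 4, 3, 0], 2),
  ([2, 4, 3, 4, 1], 0),
  ([6, 6, 4], 1),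
  ([6, 6, 7, 7, 4, 0], 2),
  ([4, 2, 1, 1], 0),
  ([4, 4, 6, 6, 4], 1),
  ([4, 6, 6, 7, 7, 0], 0),
  ([6, 6, 7, 7, 4], 1),
  ([4, 3, 2, 2], 2),
  ([6, 6, 4, 0, 0], 0),
  ([2, 4, 2, 4, 3], 1),
  ([3, 4, 1, 4, 2, 0], 2),
  ([1, 1, 4, 2, 4], 0),
  ([3, 1, 4, 2, 4], 1),
  ([3, 3, 4, 2, 4], 2),
  ([1, 4, 2, 2, 0], 0),
  ([3, 4, 2, 2, 0], 1),
  ([2, 4, 3, 1], 2),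
  ([2, 4, 2, 2, 0], 1),
  ([1, 4, 2, 2], 2),
  ([3, 4, 2, 2], 0),
  ([2, 1, 4, 2, 4], 1),
  ([3, 2, 4, 2, 4], 2),
  ([1, 7, 6, 7, 6], 0),
  ([2, 2, 4, 2, 4], 2),
  ([3, 3, 4, 2, 4, 0], 0),
  ([2, 7, 6, 7, 6], 1),
  ([3, 4, 3, 1], 2),
  ([2, 4, 2, 2], 0),
  ([1, 4, 3, 1], 1),
  ([1, 4, 2, 4, 1], 1),
  ([4, 6, 6], 2),
  ([7, 7, 4, 0, 0], 0),
  ([4, 3, 3, 2], 1),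
  ([4, 4, 4, 6, 6], 2),
  ([6, 6, 4, 4, 4], 0),
  ([4, 7, 7, 6, 6], 2),
  ([4, 2, 2, 1], 0),
  ([7, 7, 6, 6, 4], 1),
  ([7, 7, 4, 0], 2),
  ([2, 4, 3, 4, 2], 0),
  ([4, 6, 6, 0, 0], 1),
  ([4, 6, 6, 0], 0),
  ([7, 7, 4], 1),
  ([1, 4, 2, 4, 1, 0], 2),
  ([4, 4, 4, 6, 6, 0], 0),
  ([6, 6, 4, 4, 4, 0], 1),
  ([4, 3, 1, 1], 2),
  ([4, 2, 4, 1, 1], 2),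
  ([4, 3, 4, 2, 1], 0),
  ([4, 1, 4, 2, 2], 1),
  ([3, 2, 4, 3], 2),
  ([2, 2, 4, 3, 0], 0),
  ([2, 1, 4, 3], 1),
  ([3, 3, 4, 3, 0], 0),
  ([1, 1, 4, 3, 0], 1),
  ([2, 2, 4, 3], 2),
  ([4, 1, 4, 3, 1], 0),
  ([4, 2, 4, 3, 2], 1),
  ([4, 3, 4, 3, 3, 0], 2),
  ([4, 3, 4, 3, 3], 1),
  ([4, 1, 4, 2, 2, 0], 2),
  ([4, 2, 4, 1, 1, 0], 0),
  ([3, 1, 4, 3], 1),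
  ([3, 3, 4, 3], 2),
  ([1, 1, 4, 3], 0),
  ([4, 0], 1),
  ([2, 2, 1, 4], 2),
  ([3, 2, 2, 4], 0),
  ([4, 7, 7, 0], 1),
  ([3, 4, 2, 4, 2], 2),
  ([4, 4, 4], 0),
  ([4, 4, 4, 0, 0], 2),
  ([4, 7, 7], 0),
  ([2, 4, 1, 4, 1], 1),
  ([3, 3, 1, 4], 2),
  ([4], 0),
  ([3, 1, 1, 4], 1),
  ([3, 4, 2, 4, 2, 0], 0),
  ([4, 4, 4, 0], 1),
  ([4, 7, 7, 0, 0], 2),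
  ([3, 3, 2, 4], 0),
  ([2, 1, 1, 4], 1),
  ([4, 0, 0], 2),
  ([1, 1, 4, 1, 0], 2),
  ([2, 2, 4, 1], 0),
  ([3, 3, 4, 1, 0], 1),
  ([4, 2, 4, 2, 1], 2),
  ([4, 3, 4, 2, 2], 0),
  ([4, 1, 4, 1, 1], 1),
  ([4, 1, 4, 3, 2], 0),
  ([4, 2, 4, 3, 3, 0], 1),
  ([4, 3, 4, 3, 1], 2),
  ([3, 3, 4, 1], 0),
  ([1, 1, 4, 1], 1),
  ([3, 1, 4, 1], 2),
  ([4, 3, 4, 2, 2, 0], 1),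
  ([4, 1, 4, 1, 1, 0], 2),
  ([4, 2, 4, 3, 3], 0),
  ([2, 2, 4, 1, 0], 1),
  ([2, 1, 4, 1], 2),
  ([3, 2, 4, 1], 0),
  ([1, 4, 1, 1, 0], 0),
  ([3, 4, 1, 1, 0], 1),
  ([2, 4, 3, 2], 2),
  ([3, 1, 4, 1, 4], 0),
  ([3, 3, 4, 1, 4], 1),
  ([1, 1, 4, 1, 4], 2),
  ([3, 2, 4, 1, 4], 1),
  ([2, 2, 4, 1, 4, 0], 2),
  ([2, 1, 4, 1, 4], 0),
  ([2, 4, 1, 1, 0], 1),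
  ([1, 4, 1, 1], 2),
  ([3, 4, 1, 1], 0),
  ([3, 3, 4, 1, 4, 0], 2),
  ([1, 1, 4, 1, 4, 0], 0),
  ([2, 2, 4, 1, 4], 1),
  ([3, 4, 3, 2], 2),
  ([2, 4, 1, 1], 0),
  ([1, 4, 3, 2], 1),
  ([7, 7, 4, 4, 0], 2),
  ([4, 4, 6, 6], 0),
  ([6, 6, 7, 7, 0], 1),
  ([6, 6, 7, 7], 0),
  ([7, 7, 4, 4], 1),
  ([4, 4, 6, 6, 0, 0], 2),
  ([4, 4, 6, 6, 0], 1),
  ([4, 6, 6, 4], 2),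
  ([7, 7, 4, 4, 0, 0], 0),
  ([6, 6, 3, 1, 1], 2),
  ([6, 6], 0),
  ([6, 6, 3, 3, 1], 1),
  ([6, 6, 2, 1, 1], 0),
  ([6, 6, 3, 3, 2], 1),
  ([6, 6, 0, 0], 2),
  ([6, 6, 0], 1),
  ([6, 6, 3, 2, 2], 2),
  ([6, 6, 2, 2, 1], 0),
  ([1, 4, 1, 1, 0], 1),
  ([3, 4, 1, 1, 0], 2),
  ([2, 4, 3, 2], 0),
  ([3, 1, 4, 1, 4], 1),
  ([3, 3, 4, 1, 4], 2),
  ([1, 1, 4, 1, 4], 0),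
  ([3, 2, 4, 1, 4], 2),
  ([2, 2, 4, 1, 4, 0], 0),
  ([2, 1, 4, 1, 4], 1),
  ([2, 4, 1, 1, 0], 2),
  ([1, 4, 1, 1], 0),
  ([3, 4, 1, 1], 1),
  ([3, 3, 4, 1, 4, 0], 0),
  ([1, 1, 4, 1, 4, 0], 1),
  ([2, 2, 4, 1, 4], 2),
  ([3, 4, 3, 2], 0),
  ([2, 4, 1, 1], 1),
  ([1, 4, 3, 2], 2),
  ([4, 0], 2),
  ([2, 2, 1, 4], 0),
  ([3, 2, 2, 4], 1),
  ([4, 7, 7, 0], 2),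
  ([3, 4, 2, 4, 2], 0),
  ([4, 4, 4], 1),
  ([4, 4, 4, 0, 0], 0),
  ([4, 7, 7], 1),
  ([2, 4, 1, 4, 1], 2),
  ([3, 3, 1, 4], 0),
  ([4], 1),
  ([3, 1, 1, 4], 2),
  ([3, 4, 2, 4, 2, 0], 1),
  ([4, 4, 4, 0], 2),
  ([4, 7, 7, 0, 0], 0),
  ([3, 3, 2, 4], 1),
  ([2, 1, 1, 4], 2),
  ([4, 0, 0], 0),
  ([1, 1, 4, 1, 0], 0),
  ([2, 2, 4, 1], 1),
  ([3, 3, 4, 1, 0], 2),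
  ([4, 2, 4, 2, 1], 0),
  ([4, 3, 4, 2, 2], 1),
  ([4, 1, 4, 1, 1], 2),
  ([4, 1, 4, 3, 2], 1),
  ([4, 2, 4, 3, 3, 0], 2),
  ([4, 3, 4, 3, 1], 0),
  ([3, 3, 4, 1], 1),
  ([1, 1, 4, 1], 2),
  ([3, 1, 4, 1], 0),
  ([4, 3, 4, 2, 2, 0], 2),
  ([4, 1, 4, 1, 1, 0], 0),
  ([4, 2, 4, 3, 3], 1),
  ([2, 2, 4, 1, 0], 2),
  ([2, 1, 4, 1], 0),
  ([3, 2, 4, 1], 1),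
  ([3, 4, 1, 4, 2], 2),
  ([6, 6, 4, 0], 0),
  ([3, 4, 3, 4, 1], 1),
  ([4, 3, 3, 1], 2),
  ([4, 6, 6, 7, 7], 0),
  ([4, 6, 6, 4, 4], 1),
  ([2, 4, 2, 4, 3, 0], 0),
  ([2, 4, 3, 4, 1], 1),
  ([6, 6, 4], 2),
  ([6, 6, 7, 7, 4, 0], 0),
  ([4, 2, 1, 1], 1),
  ([4, 4, 6, 6, 4], 2),
  ([4, 6, 6, 7, 7, 0], 1),
  ([6, 6, 7, 7, 4], 2),
  ([4, 3, 2, 2], 0),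
  ([6, 6, 4, 0, 0], 1),
  ([2, 4, 2, 4, 3], 2),
  ([3, 4, 1, 4, 2, 0], 0),
  ([4, 2, 4, 2, 2], 0),
  ([4, 3, 4, 1, 1], 1),
  ([4, 1, 4, 2, 1], 2),
  ([1, 1, 4, 2, 0], 0),
  ([2, 2, 4, 2], 1),
  ([3, 3, 4, 2, 0], 2),
  ([4, 1, 4, 3, 3, 0], 1),
  ([4, 2, 4, 3, 1], 2),
  ([4, 3, 4, 3, 2], 0),
  ([3, 3, 4, 2], 1),
  ([1, 1, 4, 2], 2),
  ([3, 1, 4, 2], 0),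
  ([2, 2, 4, 2, 0], 2),
  ([2, 1, 4, 2], 0),
  ([3, 2, 4, 2], 1),
  ([4, 3, 4, 1, 1, 0], 2),
  ([4, 1, 4, 3, 3], 0),
  ([4, 2, 4, 2, 2, 0], 1),
  ([3, 3, 4, 3, 4], 1),
  ([1, 1, 4, 3, 4], 2),
  ([3, 1, 4, 3, 4], 0),
  ([1, 4, 3, 3], 1),
  ([3, 4, 3, 3], 2),
  ([2, 4, 3, 3, 0], 0),
  ([2, 2, 4, 3, 4, 0], 2),
  ([2, 1, 4, 3, 4], 0),
  ([3, 2, 4, 3, 4], 1),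
  ([2, 4, 3, 3], 2),
  ([1, 4, 2, 1], 0),
  ([3, 4, 2, 1], 1),
  ([3, 4, 3, 3, 0], 0),
  ([2, 4, 2, 1], 1),
  ([1, 4, 3, 3, 0], 2),
  ([1, 1, 4, 3, 4, 0], 0),
  ([2, 2, 4, 3, 4], 1),
  ([3, 3, 4, 3, 4, 0], 2),
  ([4, 2, 4, 1, 1], 0),
  ([4, 3, 4, 2, 1], 1),
  ([4, 1, 4, 2, 2], 2),
  ([3, 2, 4, 3], 0),
  ([2, 2, 4, 3, 0], 1),
  ([2, 1, 4, 3], 2),
  ([3, 3, 4, 3, 0], 1),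
  ([1, 1, 4, 3, 0], 2),
  ([2, 2, 4, 3], 0),
  ([4, 1, 4, 3, 1], 1),
  ([4, 2, 4, 3, 2], 2),
  ([4, 3, 4, 3, 3, 0], 0),
  ([4, 3, 4, 3, 3], 2),
  ([4, 1, 4, 2, 2, 0], 0),
  ([4, 2, 4, 1, 1, 0], 1),
  ([3, 1, 4, 3], 2),
  ([3, 3, 4, 3], 0),
  ([1, 1, 4, 3], 1),
  ([1, 1, 4, 2, 4], 1),
  ([3, 1, 4, 2, 4], 2),
  ([3, 3, 4, 2, 4], 0),
  ([1, 4, 2, 2, 0], 1),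
  ([3, 4, 2, 2, 0], 2),
  ([2, 4, 3, 1], 0),
  ([2, 4, 2, 2, 0], 2),
  ([1, 4, 2, 2], 0),
  ([3, 4, 2, 2], 1),
  ([2, 1, 4, 2, 4], 2),
  ([3, 2, 4, 2, 4], 0),
  ([1, 7, 6, 7, 6], 1),
  ([2, 2, 4, 2, 4], 0),
  ([3, 3, 4, 2, 4, 0], 1),
  ([2, 7, 6, 7, 6], 2),
  ([3, 4, 3, 1], 0),
  ([2, 4, 2, 2], 1),
  ([1, 4, 3, 1], 2),
  ([1, 4, 2, 4, 1], 2),
  ([4, 6, 6], 0),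
  ([7, 7, 4, 0, 0], 1),
  ([4, 3, 3, 2], 2),
  ([4, 4, 4, 6, 6], 0),
  ([6, 6, 4, 4, 4], 1),
  ([4, 7, 7, 6, 6], 0),
  ([4, 2, 2, 1], 1),
  ([7, 7, 6, 6, 4], 2),
  ([7, 7, 4, 0], 0),
  ([2, 4, 3, 4, 2], 1),
  ([4, 6, 6, 0, 0], 2),
  ([4, 6, 6, 0], 1),
  ([7, 7, 4], 2),
  ([1, 4, 2, 4, 1, 0], 0),
  ([4, 4, 4, 6, 6, 0], 1),
  ([6, 6, 4, 4, 4, 0], 2),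
  ([4, 3, 1, 1], 0)]

end Cfsg.Agent.U62Three.K.Code
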