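import Cfsg.Agent.U62Three.K.Code.Defs
import Cfsg.Agent.U62Three.K.Code.FourData
import Cfsg.Agent.U62Three.K.Code.StabData

/-!
# The finite checks on the codes
-/

set_option autoImplicit false
set_option maxRecDepth 100000
set_option maxHeartbeats 2000000

namespace Cfsg.Agent.U62Three.K.Code

open U62Rec

/-- The square is not trivial and the fourth power is. -/
def isFour (g : ℕ) : Bool := !Nat.beq (U62Rec.cmp g g) idm && Nat.beq (U62Rec.cmp (U62Rec.cmp g g) (U62Rec.cmp g g)) idm

/-- The generators used with an element of order four. -/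
def gensFour (g : ℕ) : List ℕ := [gPt 0, gPt 1, gPt 2, gPt 3, g]

/-- The words lead to `hh i`. -/
def fourOK (i : Fin 4) (ws : List (List ℕ)) : Bool :=
  let gs := (blockCodes i).filter isFour
  Nat.beq gs.length ws.length &&
    (List.zip gs ws).all fun p => Nat.beq (evW (gensFour p.1) p.2) (hh i)

theorem four_ok0 : fourOK 0 fourWords0 = true := by decide +kernel

theorem four_ok1 : fourOK 1 fourWords1 = true := by decide +kernel

theorem four_ok2 : fourOK 2 fourWords2 = true := by decide +kernel

theorem four_ok3 : fourOK 3 fourWords3 = true := by decide +kernel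

/-- The vectors of value one. -/
def unitList : List ℕ := (List.range 256).filter fun v => qv 255 v

theorem orbit_ok : (Nat.beq unitList.length orbitWords.length &&
    (List.zip unitList orbitWords).all fun p => Nat.beq (app (evW gensS p.2) p.1) 1) = true := by
  decide +kernel

theorem stab_ok : (Nat.beq (blockCodes 0).length stabWords.length &&
    (List.zip (blockCodes 0) stabWords).all fun p =>
      Nat.beq (U62Rec.cmp (evW gensS p.2.1) p.1) (pw gDD p.2.2) && Nat.ble p.2.2 2) = true := by
  decide +kernel

/-- The good codes used. -/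
def goodList : List ℕ := gensS ++ [gDD, gDel, gOm]

theorem good_ok : (goodList.all fun g => Nat.blt g (2 ^ 64) &&
    (Nat.beq (U62Rec.cmp g gOm) (U62Rec.cmp gOm g) || Nat.beq (U62Rec.cmp g gOm) (U62Rec.cmp (U62Rec.cmp gOm gOm) g)) &&
    (List.range 256).all fun v => qv 255 (app g v) == qv 255 v) = true := by
  decide +kernel

theorem units_eq : ∀ i : Fin 4, ∀ v : Fin 256, qv 255 v = true → fv v (2 ^ (2 * (i : ℕ))) = false →
    fv v (2 ^ (2 * (i : ℕ) + 1)) = false → (v : ℕ) ∈ units i := by
  intro i v h1 h2 h3
  simp only [units, List.mem_filter, List.mem_range, h1, h2, h3, v.2, Bool.not_false, Bool.and_self, and_self]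

theorem om_facts : (U62Rec.cmp gDel gOm == U62Rec.cmp (U62Rec.cmp gOm gOm) gDel) && (U62Rec.cmp gDel gDel == idm) &&
    (U62Rec.cmp (U62Rec.cmp gOm gOm) gOm == idm) && (app gDel 1 == 1) && (app gDel 2 == 3) && (app gOm 1 == 2) &&
    (app gOm 2 == 3) && (app gOm 4 == 8) && (app gOm 16 == 32) && (app gOm 64 == 128) && (app gOm 3 == 1) = true := by
  decide +kernel

end Cfsg.Agent.U62Three.K.Code
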