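import Cfsg.Agent.U62Rec.Mod

/-!
# Semilinear isometries of the space of 256 vectors as codes

Four planes, the bits `2 i, 2 i + 1`; `gOm` is the scalar of order three on all of them, `gPt i` is the identity
on plane `i` and the scalar on the others, `hh i` an element of order four on the planes other than `i`.
-/

set_option autoImplicit false

namespace Cfsg.Agent.U62Three.K.Code

open U62Rec

/-- The scalar on a vector. -/
def omv (v : ℕ) : ℕ := app (pack 2 3 8 12 32 48 128 192) v

/-- The code of the map commuting with the scalar with given images of the even unit vectors. -/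
def linc (a b c d : ℕ) : ℕ := pack a (omv a) b (omv b) c (omv c) d (omv d)

/-- The scalar. -/
def gOm : ℕ := pack 2 3 8 12 32 48 128 192

/-- The image of the point `i`. -/
def gPt : Fin 4 → ℕ := ![linc 1 8 32 128, linc 2 4 32 128, linc 2 8 16 128, linc 2 8 32 64]

/-- A diagonal element of nontrivial determinant. -/
def gDD : ℕ := linc 1 8 16 64

/-- The field automorphism. -/
def gDel : ℕ := pack 1 3 4 12 16 48 64 192

/-- A power of a code. -/
def pw (g : ℕ) : ℕ → ℕ
  | 0 => idm
  | n + 1 => U62Rec.cmp g (pw g n)

/-- The code of a word. -/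
def evW (gens : List ℕ) : List ℕ → ℕ
  | [] => idm
  | k :: w => U62Rec.cmp (gens.getD k idm) (evW gens w)

/-- Commutes with the scalar. -/
def IsLin (g : ℕ) : Prop := U62Rec.cmp g gOm = U62Rec.cmp gOm g

/-- The quadratic form with all eight unit vectors nonsingular. -/
def Iso (g : ℕ) : Prop := ∀ v < 256, qv 255 (app g v) = qv 255 v

/-- A semilinear isometry. -/
def Good (g : ℕ) : Prop :=
  IsCode g ∧ (IsLin g ∨ U62Rec.cmp g gOm = U62Rec.cmp (U62Rec.cmp gOm gOm) g) ∧ Iso g

/-- The vectors with quadratic value one outside plane `i`. -/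
def units (i : ℕ) : List ℕ :=
  (List.range 256).filter fun v => qv 255 v && !fv v (2 ^ (2 * i)) && !fv v (2 ^ (2 * i + 1))

/-- Orthogonality over the field with four elements. -/
def orth (a b : ℕ) : Bool := !fv a b && !fv a (omv b)

/-- The orthogonal triples outside plane `i`. -/
def triples (i : ℕ) : List (ℕ × ℕ × ℕ) :=
  let L := units i
  L.flatMap fun a => (L.filter (orth a)).flatMap fun b =>
    (L.filter fun c => orth a c && orth b c).map fun c => (a, b, c)

/-- The code fixing plane `i` of a triple. -/
def ofTriple (i : ℕ) (p : ℕ × ℕ × ℕ) : ℕ :=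
  if i = 0 then linc 1 p.1 p.2.1 p.2.2 else if i = 1 then linc p.1 4 p.2.1 p.2.2
  else if i = 2 then linc p.1 p.2.1 16 p.2.2 else linc p.1 p.2.1 p.2.2 64

/-- The codes fixing plane `i` pointwise that commute with the scalar. -/
def blockCodes (i : ℕ) : List ℕ := (triples i).map (ofTriple i)

/-- The elements of order four on three planes. -/
def hh : Fin 4 → ℕ :=
  ![6123941636162716161, 5905225654382940849, 5030274564157785741, 9241409796347672109]

/-- The generators of the special unitary group. -/
def gensS : List ℕ := [gPt 0, gPt 1, gPt 2, gPt 3, hh 0, hh 1, hh 2, hh 3]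

end Cfsg.Agent.U62Three.K.Code
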