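import Cfsg.Agent.U62Three.K.Code.Check

/-!
# The structure of the group of semilinear isometries
-/

set_option autoImplicit false

namespace Cfsg.Agent.U62Three.K.Code

open U62Rec

theorem om_eqs : U62Rec.cmp gDel gOm = U62Rec.cmp (U62Rec.cmp gOm gOm) gDel ∧ U62Rec.cmp gDel gDel = idm ∧ U62Rec.cmp (U62Rec.cmp gOm gOm) gOm = idm ∧
    app gDel 1 = 1 ∧ app gDel 2 = 3 ∧ app gOm 1 = 2 ∧ app gOm 2 = 3 ∧ app gOm 4 = 8 ∧ app gOm 16 = 32 ∧
    app gOm 64 = 128 ∧ app gOm 3 = 1 := by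
  have := om_facts
  simp only [Bool.and_eq_true, beq_iff_eq] at this
  tauto

theorem good_of_mem {g : ℕ} (hg : g ∈ goodList) : Good g := by
  have h := good_ok
  rw [List.all_eq_true] at h
  have h' := h g hg
  simp only [Bool.and_eq_true, Bool.or_eq_true, List.all_eq_true, List.mem_range, beq_iff_eq] at h'
  obtain ⟨⟨h1, h2⟩, h3⟩ := h'
  exact ⟨Nat.le_of_ble_eq_true h1, h2.imp Nat.eq_of_beq_eq_true Nat.eq_of_beq_eq_true, h3⟩

theorem isCode_gOm : IsCode gOm :=
  isCode_pack (by norm_num) (by norm_num) (by norm_num) (by norm_num) (by norm_num) (by norm_num) (by norm_num)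
    (by norm_num)

theorem isLin_idm : IsLin idm := (idm_cmp isCode_gOm).trans (cmp_idm isCode_gOm).symm

theorem isCode_linc {a b c d : ℕ} (ha : a < 256) (hb : b < 256) (hc : c < 256) (hd : d < 256) :
    IsCode (linc a b c d) :=
  isCode_pack ha (app_lt _ _) hb (app_lt _ _) hc (app_lt _ _) hd (app_lt _ _)

/-- A code commuting with the scalar is given by four images. -/
theorem eq_linc {g : ℕ} (hg : IsCode g) (hl : IsLin g) :
    g = linc (app g 1) (app g 4) (app g 16) (app g 64) := by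
  obtain ⟨-, -, -, -, -, e1, -, e4, e16, e64, -⟩ := om_eqs
  have key : ∀ v, app g (app gOm v) = omv (app g v) := fun v => by
    rw [← app_cmp, hl, app_cmp]; rfl
  obtain ⟨u0, u1, u2, u3, u4, u5, u6, u7⟩ := app_unit g
  have k1 : app g 2 = omv (app g 1) := by rw [← key, e1]
  have k4 : app g 8 = omv (app g 4) := by rw [← key, e4]
  have k16 : app g 32 = omv (app g 16) := by rw [← key, e16]
  have k64 : app g 128 = omv (app g 64) := by rw [← key, e64]
  rw [linc, ← k1, ← k4, ← k16, ← k64, u0, u1, u2, u3, u4, u5, u6, u7, pack_byte hg]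

theorem iso_fv {g : ℕ} (hg : Iso g) {a b : ℕ} (ha : a < 256) (hb : b < 256) :
    fv (app g a) (app g b) = fv a b := by
  have h := hg (a ^^^ b) (Nat.xor_lt_two_pow (n := 8) ha hb)
  rw [app_xor, qv_xor, qv_xor, hg a ha, hg b hb] at h
  revert h
  cases qv 255 a <;> cases qv 255 b <;> simp

/-- A code commuting with the scalar that fixes plane `i` is listed. -/
theorem mem_blockCodes {g : ℕ} (hg : IsCode g) (hl : IsLin g) (hi : Iso g) (i : Fin 4)
    (hf : app g (2 ^ (2 * (i : ℕ))) = 2 ^ (2 * (i : ℕ))) : g ∈ blockCodes i := by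
  have homv : ∀ v < 256, app g (omv v) = omv (app g v) := fun v _ => by
    show app g (app gOm v) = app gOm (app g v)
    rw [← app_cmp, hl, app_cmp]
  have hf' : app g (omv (2 ^ (2 * (i : ℕ)))) = omv (2 ^ (2 * (i : ℕ))) := by
    rw [homv _ (by fin_cases i <;> norm_num), hf]
  have tab : ∀ i : Fin 4, omv (2 ^ (2 * (i : ℕ))) = 2 ^ (2 * (i : ℕ) + 1) ∧ ∀ k : Fin 4, k ≠ i →
      qv 255 (2 ^ (2 * (k : ℕ))) = true ∧ fv (2 ^ (2 * (k : ℕ))) (2 ^ (2 * (i : ℕ))) = false ∧
      fv (2 ^ (2 * (k : ℕ))) (2 ^ (2 * (i : ℕ) + 1)) = false ∧ 2 ^ (2 * (k : ℕ)) < 256 ∧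
      ∀ l : Fin 4, l ≠ k → fv (2 ^ (2 * (k : ℕ))) (2 ^ (2 * (l : ℕ))) = false ∧
        fv (2 ^ (2 * (k : ℕ))) (omv (2 ^ (2 * (l : ℕ)))) = false := by decide +kernel
  rw [(tab i).1] at hf'
  have hu : ∀ k : Fin 4, k ≠ i → app g (2 ^ (2 * (k : ℕ))) ∈ units i := fun k hk => by
    obtain ⟨q, f0, f1, hlt, -⟩ := (tab i).2 k hk
    refine units_eq i ⟨_, app_lt _ _⟩ (by rw [hi _ hlt]; exact q) ?_ ?_
    · rw [← hf, iso_fv hi hlt (by fin_cases i <;> norm_num)]; exact f0
    · rw [← hf', iso_fv hi hlt (by fin_cases i <;> norm_num)]; exact f1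
  have ho : ∀ k l : Fin 4, k ≠ i → l ≠ k → l ≠ i →
      orth (app g (2 ^ (2 * (k : ℕ)))) (app g (2 ^ (2 * (l : ℕ)))) = true := fun k l hk hlk hli => by
    obtain ⟨-, -, -, hlt, ht⟩ := (tab i).2 k hk
    obtain ⟨-, -, -, hlt', -⟩ := (tab i).2 l hli
    rw [orth, iso_fv hi hlt hlt', ← homv _ hlt', iso_fv hi hlt (show omv _ < 256 from app_lt _ _), (ht l hlk).1,
      (ht l hlk).2]
    rfl
  have htri : ∀ a b c : Fin 4, a ≠ i → b ≠ i → c ≠ i → a ≠ b → a ≠ c → b ≠ c →
      (app g (2 ^ (2 * (a : ℕ))), app g (2 ^ (2 * (b : ℕ))), app g (2 ^ (2 * (c : ℕ)))) ∈ triples i := by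
    intro a b c ha hb hc hab hac hbc
    simp only [triples, List.mem_flatMap, List.mem_map, List.mem_filter, Bool.and_eq_true]
    exact ⟨_, hu a ha, _, ⟨hu b hb, ho a b ha hab.symm hb⟩, _,
      ⟨hu c hc, ho a c ha hac.symm hc, ho b c hb hbc.symm hc⟩, rfl⟩
  rw [blockCodes, List.mem_map]
  fin_cases i
  · exact ⟨_, htri 1 2 3 (by decide) (by decide) (by decide) (by decide) (by decide) (by decide),
      (by conv_rhs => rw [eq_linc hg hl, show app g 1 = 1 from hf]
          simp [ofTriple])⟩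
  · exact ⟨_, htri 0 2 3 (by decide) (by decide) (by decide) (by decide) (by decide) (by decide),
      (by conv_rhs => rw [eq_linc hg hl, show app g 4 = 4 from hf]
          simp [ofTriple])⟩
  · exact ⟨_, htri 0 1 3 (by decide) (by decide) (by decide) (by decide) (by decide) (by decide),
      (by conv_rhs => rw [eq_linc hg hl, show app g 16 = 16 from hf]
          simp [ofTriple])⟩
  · exact ⟨_, htri 0 1 2 (by decide) (by decide) (by decide) (by decide) (by decide) (by decide),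
      (by conv_rhs => rw [eq_linc hg hl, show app g 64 = 64 from hf]
          simp [ofTriple])⟩

theorem exists_partner {α β : Type*} {l : List α} {l' : List β} (h : l.length = l'.length) {a : α}
    (ha : a ∈ l) : ∃ b, (a, b) ∈ List.zip l l' := by
  obtain ⟨n, hn, e⟩ := List.getElem_of_mem ha
  exact ⟨l'[n]'(h ▸ hn), List.mem_iff_getElem.2 ⟨n, by simp [hn, h ▸ hn], by simp [e]⟩⟩

theorem four_gen {i : Fin 4} {ws : List (List ℕ)} (h : fourOK i ws = true) {g : ℕ}
    (hg : g ∈ blockCodes i) (h2 : U62Rec.cmp g g ≠ idm) (h4 : U62Rec.cmp (U62Rec.cmp g g) (U62Rec.cmp g g) = idm) :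
    ∃ w, evW (gensFour g) w = hh i := by
  simp only [fourOK, Bool.and_eq_true, List.all_eq_true] at h
  have hm : g ∈ (blockCodes i).filter isFour := by
    refine List.mem_filter.2 ⟨hg, ?_⟩
    simp only [isFour, Bool.and_eq_true, Bool.not_eq_true', h4, Nat.beq_refl, and_true]
    exact Bool.eq_false_iff.2 fun e => h2 (Nat.eq_of_beq_eq_true e)
  obtain ⟨w, hw⟩ := exists_partner (Nat.eq_of_beq_eq_true h.1) hm
  exact ⟨w, Nat.eq_of_beq_eq_true (h.2 _ hw)⟩

/-- An element of order four on the planes other than `i` reaches `hh i` with the points. -/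
theorem reach_hh {g : ℕ} (hg : IsCode g) (hl : IsLin g) (hi : Iso g) (i : Fin 4)
    (hf : app g (2 ^ (2 * (i : ℕ))) = 2 ^ (2 * (i : ℕ))) (h2 : U62Rec.cmp g g ≠ idm)
    (h4 : U62Rec.cmp (U62Rec.cmp g g) (U62Rec.cmp g g) = idm) : ∃ w, evW (gensFour g) w = hh i := by
  have hm := mem_blockCodes hg hl hi i hf
  fin_cases i
  · exact four_gen four_ok0 hm h2 h4
  · exact four_gen four_ok1 hm h2 h4
  · exact four_gen four_ok2 hm h2 h4
  · exact four_gen four_ok3 hm h2 h4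

theorem cmp_lin {g h : ℕ} (hg : IsLin g) (hh : IsLin h) : IsLin (U62Rec.cmp g h) := by
  unfold IsLin at *
  rw [cmp_assoc, hh, ← cmp_assoc, hg, cmp_assoc]

theorem iso_cmp {g h : ℕ} (hg : Iso g) (hh : Iso h) : Iso (U62Rec.cmp g h) := fun v hv => by
  rw [app_cmp, hg _ (app_lt _ _), hh v hv]

theorem anti_cmp_anti {g h : ℕ} (hg : U62Rec.cmp g gOm = U62Rec.cmp (U62Rec.cmp gOm gOm) g)
    (hh : U62Rec.cmp h gOm = U62Rec.cmp (U62Rec.cmp gOm gOm) h) : IsLin (U62Rec.cmp g h) := by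
  obtain ⟨-, -, e3, -⟩ := om_eqs
  show U62Rec.cmp (U62Rec.cmp g h) gOm = U62Rec.cmp gOm (U62Rec.cmp g h)
  have h2 : U62Rec.cmp g (U62Rec.cmp gOm gOm) = U62Rec.cmp gOm g := by
    rw [← cmp_assoc, hg, cmp_assoc, hg, ← cmp_assoc, ← cmp_assoc, e3,
      idm_cmp isCode_gOm]
  rw [cmp_assoc, hh, ← cmp_assoc, h2, cmp_assoc]

theorem lin_cmp_anti {g h : ℕ} (hg : IsLin g) (hh : U62Rec.cmp h gOm = U62Rec.cmp (U62Rec.cmp gOm gOm) h) :
    U62Rec.cmp (U62Rec.cmp g h) gOm = U62Rec.cmp (U62Rec.cmp gOm gOm) (U62Rec.cmp g h) := by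
  show U62Rec.cmp (U62Rec.cmp g h) gOm = _
  rw [cmp_assoc, hh, ← cmp_assoc, ← cmp_assoc g, hg, cmp_assoc gOm g, hg, ← cmp_assoc gOm, cmp_assoc]

theorem anti_cmp_lin {g h : ℕ} (hg : U62Rec.cmp g gOm = U62Rec.cmp (U62Rec.cmp gOm gOm) g) (hh : IsLin h) :
    U62Rec.cmp (U62Rec.cmp g h) gOm = U62Rec.cmp (U62Rec.cmp gOm gOm) (U62Rec.cmp g h) := by
  rw [cmp_assoc, hh, ← cmp_assoc, hg, cmp_assoc]

theorem good_cmp {g h : ℕ} (hg : Good g) (hh : Good h) : Good (U62Rec.cmp g h) := by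
  refine ⟨isCode_cmp _ _, ?_, iso_cmp hg.2.2 hh.2.2⟩
  rcases hg.2.1 with e | e <;> rcases hh.2.1 with e' | e'
  exacts [Or.inl (cmp_lin e e'), Or.inr (lin_cmp_anti e e'), Or.inr (anti_cmp_lin e e'),
    Or.inl (anti_cmp_anti e e')]

theorem good_idm : Good idm := ⟨isCode_idm, Or.inl isLin_idm, fun v hv => by rw [app_idm hv]⟩

theorem good_evW {gens : List ℕ} (h : ∀ g ∈ gens, Good g) : ∀ w, Good (evW gens w)
  | [] => good_idm
  | k :: w => by
    refine good_cmp ?_ (good_evW h w)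
    rcases lt_or_ge k gens.length with hk | hk
    · rw [List.getD_eq_getElem _ _ hk]; exact h _ (List.getElem_mem hk)
    · rw [List.getD_eq_default _ _ hk]; exact good_idm

theorem good_gensS : ∀ g ∈ gensS, Good g := fun g hg => good_of_mem (List.mem_append_left _ hg)

theorem good_pw {g : ℕ} (h : Good g) : ∀ n, Good (pw g n)
  | 0 => good_idm
  | n + 1 => good_cmp h (good_pw h n)

/-- Every semilinear isometry is a product of an element of the generated group, a power of the diagonal element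
and a power of the field automorphism. -/
theorem decomp {g : ℕ} (hg : Good g) : ∃ w w' : List ℕ, ∃ k ≤ 2, ∃ e ≤ 1,
    U62Rec.cmp (evW gensS w') (U62Rec.cmp (U62Rec.cmp (evW gensS w) g) (pw gDel e)) = pw gDD k := by
  obtain ⟨-, -, e3, d1, d2, o1, o2, -, -, -, o3⟩ := om_eqs
  have hv : app g 1 ∈ unitList := by
    rw [unitList]
    refine List.mem_filter.2 ⟨List.mem_range.2 (app_lt _ _), ?_⟩
    rw [hg.2.2 1 (by norm_num)]
    decide +kernel
  have ho := orbit_ok
  rw [Bool.and_eq_true, List.all_eq_true] at ho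
  obtain ⟨w, hw⟩ := exists_partner (Nat.eq_of_beq_eq_true ho.1) hv
  have hw1 : app (evW gensS w) (app g 1) = 1 := by
    have h := ho.2 _ hw
    dsimp only at h
    exact Nat.eq_of_beq_eq_true h
  have hG : Good (U62Rec.cmp (evW gensS w) g) := good_cmp (good_evW good_gensS w) hg
  set h := U62Rec.cmp (evW gensS w) g
  have hh1 : app h 1 = 1 := by rw [app_cmp]; exact hw1
  have hdel : Good gDel := good_of_mem (by simp [goodList])
  obtain ⟨e, he, hlin, hfix⟩ : ∃ e ≤ 1, IsLin (U62Rec.cmp h (pw gDel e)) ∧ app (U62Rec.cmp h (pw gDel e)) 1 = 1 := by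
    rcases hG.2.1 with hl | hl
    · exact ⟨0, by omega, cmp_lin hl isLin_idm,
        by rw [pw, app_cmp, app_idm (by norm_num), hh1]⟩
    · refine ⟨1, le_rfl, ?_, ?_⟩
      · rw [pw, pw, cmp_idm hdel.1]
        exact anti_cmp_anti hl (om_eqs).1
      · rw [pw, pw, cmp_idm hdel.1, app_cmp, d1, hh1]
  have hG' : Good (U62Rec.cmp h (pw gDel e)) := good_cmp hG (good_pw hdel e)
  have hm := mem_blockCodes hG'.1 hlin hG'.2.2 (0 : Fin 4) (by simpa using hfix)
  have hs := stab_ok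
  rw [Bool.and_eq_true, List.all_eq_true] at hs
  obtain ⟨⟨w', k⟩, hp⟩ := exists_partner (Nat.eq_of_beq_eq_true hs.1) hm
  have h12 := hs.2 _ hp
  dsimp only at h12
  rw [Bool.and_eq_true] at h12
  obtain ⟨h1, h2⟩ := h12
  exact ⟨w, w', k, Nat.le_of_ble_eq_true h2, e, he, Nat.eq_of_beq_eq_true h1⟩

end Cfsg.Agent.U62Three.K.Code
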